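import Mathlib
import Groth.Prelude.Def_SGA3b
import Groth.Agent.Lib.Helper6.MultType.Field
import Groth.Agent.Lib.Helper6.MultType.PowConv
import Groth.Agent.Lib.Helper7.SmoothBC.GeomRed

/-!
# Density of the torsion in a smooth group of multiplicative type over a field (helper6)

For a finitely generated smooth Hopf algebra `A` of multiplicative type over a field `k`, the
ideals of the kernels `ₙG` of the `n`-th power maps, `n > 0` prime to the characteristic,
have zero intersection.
-/

set_option autoImplicit false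
set_option linter.unusedSectionVars false
set_option linter.unusedVariables false
set_option linter.unusedSimpArgs false
set_option linter.style.haveILetI false
set_option linter.overlappingInstances false
set_option maxHeartbeats 800000
set_option synthInstance.maxHeartbeats 400000

noncomputable section

namespace Groth.Agent.Lib.Helper6.TorsDense

open TensorProduct SGA3b Coalgebra Groth.Agent.Lib.Helper6.MultType

universe u

section arith

variable {p : ℕ}

lemma not_dvd_one (hp0 : p = 0 ∨ p.Prime) : ¬ p ∣ 1 := by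
  rcases hp0 with rfl | hp
  · simp
  · exact hp.one_lt.ne' ∘ Nat.dvd_one.mp

lemma not_dvd_mul (hp0 : p = 0 ∨ p.Prime) {a b : ℕ} (ha0 : 0 < a) (hb0 : 0 < b)
    (ha : ¬ p ∣ a) (hb : ¬ p ∣ b) : ¬ p ∣ a * b := by
  rcases hp0 with rfl | hp
  · rw [zero_dvd_iff]
    exact (Nat.mul_pos ha0 hb0).ne'
  · intro h
    rcases hp.dvd_mul.mp h with h | h
    · exact ha h
    · exact hb h

lemma not_dvd_prime_pow (hp0 : p = 0 ∨ p.Prime) {q : ℕ} (hq : q.Prime) (hqp : q ≠ p) (e : ℕ) :
    ¬ p ∣ q ^ e := by
  rcases hp0 with rfl | hp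
  · rw [zero_dvd_iff]
    exact (pow_pos hq.pos e).ne'
  · intro h
    have h1 : p ∣ q := hp.dvd_of_dvd_pow h
    exact hqp ((Nat.prime_dvd_prime_iff_eq hp hq).mp h1).symm

end arith

section grp

variable {G : Type*} [AddCommGroup G] [AddGroup.FG G] {p : ℕ}

/-- in a finitely generated abelian group without `p`-torsion, a nonzero element is not
divisible by some `n` prime to `p` -/
theorem exists_not_mem_smul (hp0 : p = 0 ∨ p.Prime)
    (htors : p.Prime → ∀ g : G, p • g = 0 → g = 0) (d : G) (hd : d ≠ 0) :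
    ∃ n : ℕ, 0 < n ∧ ¬ p ∣ n ∧ ∀ g : G, n • g ≠ d := by
  classical
  obtain ⟨r, ι, _, q, hq, e, ⟨f⟩⟩ := AddCommGroup.equiv_free_prod_directSum_zmod G
  have hfd : f d ≠ 0 := by
    intro h
    apply hd
    have : f d = f 0 := by rw [h, map_zero]
    exact f.injective this
  by_cases ha : (f d).1 = 0
  · have hb : (f d).2 ≠ 0 := by
      intro hb
      exact hfd (Prod.ext ha hb)
    obtain ⟨i, hi⟩ : ∃ i, (f d).2 i ≠ 0 := by
      by_contra hcon
      push Not at hcon
      exact hb (DFinsupp.ext hcon)
    have hqi : (q i).Prime := hq i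
    by_cases hqp : q i = p
    · exfalso
      have hpp : p.Prime := hqp ▸ hqi
      rcases Nat.eq_zero_or_pos (e i) with he | he
      · have hss : Subsingleton (ZMod (q i ^ e i)) := by
          rw [he, pow_zero]
          infer_instance
        exact hi (Subsingleton.elim _ _)
      · have hc : p • (((q i ^ (e i - 1) : ℕ) : ZMod (q i ^ e i))) = 0 := by
          rw [nsmul_eq_mul, ← Nat.cast_mul, ← hqp, ← pow_succ', Nat.sub_add_cancel he,
            ZMod.natCast_self]
        have hz : p • (((0 : Fin r →₀ ℤ),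
            DirectSum.of (fun i => ZMod (q i ^ e i)) i
              (((q i ^ (e i - 1) : ℕ) : ZMod (q i ^ e i)))) :
                (Fin r →₀ ℤ) × DirectSum ι (fun i => ZMod (q i ^ e i))) = 0 := by
          rw [Prod.smul_mk, smul_zero, ← map_nsmul, hc, map_zero]
          rfl
        have hpt : p • f.symm (((0 : Fin r →₀ ℤ),
            DirectSum.of (fun i => ZMod (q i ^ e i)) i
              (((q i ^ (e i - 1) : ℕ) : ZMod (q i ^ e i))))) = 0 := by
          rw [← map_nsmul, hz, map_zero]
        have ht0 := htors hpp _ hpt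
        have ht1 : (((0 : Fin r →₀ ℤ),
            DirectSum.of (fun i => ZMod (q i ^ e i)) i
              (((q i ^ (e i - 1) : ℕ) : ZMod (q i ^ e i)))) :
                (Fin r →₀ ℤ) × DirectSum ι (fun i => ZMod (q i ^ e i))) = 0 := by
          have := congrArg f ht0
          rwa [AddEquiv.apply_symm_apply, map_zero] at this
        have ht2 : DirectSum.of (fun i => ZMod (q i ^ e i)) i
              (((q i ^ (e i - 1) : ℕ) : ZMod (q i ^ e i))) = 0 := congrArg Prod.snd ht1
        have ht3 : (((q i ^ (e i - 1) : ℕ) : ZMod (q i ^ e i))) = 0 := by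
          have := congrArg (fun z : DirectSum ι (fun i => ZMod (q i ^ e i)) => z i) ht2
          simpa using this
        rw [ZMod.natCast_eq_zero_iff] at ht3
        have h1 : q i ^ e i ≤ q i ^ (e i - 1) := Nat.le_of_dvd (pow_pos hqi.pos _) ht3
        have h2 : q i ^ (e i - 1) < q i ^ e i :=
          Nat.pow_lt_pow_right hqi.one_lt (Nat.sub_lt he one_pos)
        omega
    · refine ⟨q i ^ e i, pow_pos hqi.pos _, not_dvd_prime_pow hp0 hqi hqp _, ?_⟩
      intro g hg
      apply hi
      have e1 : f d = (q i ^ e i) • f g := by rw [← hg, map_nsmul]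
      have e2 : (f d).2 i = (q i ^ e i) • ((f g).2 i) := by
        rw [e1, Prod.smul_snd]
        exact DFinsupp.nsmul_apply _ _ _
      rw [e2, nsmul_eq_mul, ZMod.natCast_self, zero_mul]
  · obtain ⟨j, hj⟩ : ∃ j, (f d).1 j ≠ 0 := by
      by_contra hcon
      push Not at hcon
      exact ha (Finsupp.ext hcon)
    obtain ⟨ℓ, hℓ, hℓp⟩ : ∃ ℓ : ℕ, ℓ.Prime ∧ ℓ ≠ p := by
      by_cases h2 : p = 2
      · exact ⟨3, Nat.prime_three, by omega⟩
      · exact ⟨2, Nat.prime_two, fun h => h2 h.symm⟩
    refine ⟨ℓ ^ ((f d).1 j).natAbs, pow_pos hℓ.pos _, not_dvd_prime_pow hp0 hℓ hℓp _, ?_⟩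
    intro g hg
    obtain ⟨N, hN⟩ : ∃ N : ℕ, N = ℓ ^ ((f d).1 j).natAbs := ⟨_, rfl⟩
    rw [← hN] at hg
    have e1 : f d = N • f g := by rw [← hg, map_nsmul]
    have e2' : (f d).1 j = ((N : ℕ) : ℤ) * ((f g).1 j) := by
      rw [e1, Prod.smul_fst, Finsupp.smul_apply, nsmul_eq_mul]
    have e2 : (f d).1 j = ((ℓ ^ ((f d).1 j).natAbs : ℕ) : ℤ) * ((f g).1 j) := by
      rw [← hN]
      exact e2'
    have h2 : ((ℓ ^ ((f d).1 j).natAbs : ℕ) : ℤ) ∣ (f d).1 j := ⟨_, e2⟩
    have h3 : ℓ ^ ((f d).1 j).natAbs ∣ ((f d).1 j).natAbs := by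
      have := Int.natAbs_dvd_natAbs.mpr h2
      rwa [Int.natAbs_natCast] at this
    have h4 : ℓ ^ ((f d).1 j).natAbs ≤ ((f d).1 j).natAbs :=
      Nat.le_of_dvd (Int.natAbs_pos.mpr hj) h3
    exact absurd h4 (not_le.mpr (Nat.lt_pow_self hℓ.one_lt))

/-- the same for finitely many nonzero elements -/
theorem exists_forall_not_mem_smul (hp0 : p = 0 ∨ p.Prime)
    (htors : p.Prime → ∀ g : G, p • g = 0 → g = 0) (D : Finset G) (hD : ∀ d ∈ D, d ≠ 0) :
    ∃ n : ℕ, 0 < n ∧ ¬ p ∣ n ∧ ∀ d ∈ D, ∀ g : G, n • g ≠ d := by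
  classical
  induction D using Finset.induction_on with
  | empty => exact ⟨1, one_pos, not_dvd_one hp0, fun d hd => absurd hd (Finset.notMem_empty d)⟩
  | insert d D hdD ih =>
    obtain ⟨n₁, h1, h1', h1''⟩ := ih (fun x hx => hD x (Finset.mem_insert_of_mem hx))
    obtain ⟨n₂, h2, h2', h2''⟩ :=
      exists_not_mem_smul hp0 htors d (hD d (Finset.mem_insert_self d D))
    refine ⟨n₁ * n₂, Nat.mul_pos h1 h2, not_dvd_mul hp0 h1 h2 h1' h2', ?_⟩
    intro x hx g
    rw [Finset.mem_insert] at hx
    rcases hx with rfl | hx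
    · rw [mul_nsmul]
      exact h2'' _
    · rw [mul_nsmul']
      exact h1'' x hx _

end grp

section torsionIdeal

variable {R : Type u} [CommRing R] {A : Type u} [CommRing A] [HopfAlgebra R A]

/-- bialgebra maps carry the torsion ideals into the torsion ideals -/
lemma bialgHom_mem_torsionIdeal {B : Type u} [CommRing B] [HopfAlgebra R B] (f : A →ₐc[R] B)
    (n : ℕ) {a : A} (ha : a ∈ torsionIdeal R A n) : f a ∈ torsionIdeal R B n := by
  have hle : torsionIdeal R A n ≤ Ideal.comap (f : A →+* B) (torsionIdeal R B n) := by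
    rw [torsionIdeal, Ideal.map_le_iff_le_comap]
    intro z hz
    rw [RingHom.mem_ker] at hz
    rw [Ideal.mem_comap, Ideal.mem_comap]
    show f (powConv R A n z) ∈ torsionIdeal R B n
    rw [bialgHom_powConv]
    apply Ideal.mem_map_of_mem
    rw [RingHom.mem_ker]
    show counit (R := R) (f z) = 0
    rw [CoalgHomClass.counit_comp_apply]
    exact hz
  exact hle ha

variable (R' : Type u) [CommRing R'] [Algebra R R']

/-- base change carries the torsion ideals into the torsion ideals -/
lemma one_tmul_mem_torsionIdeal (n : ℕ) {a : A} (ha : a ∈ torsionIdeal R A n) :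
    (1 : R') ⊗ₜ[R] a ∈ torsionIdeal R' (R' ⊗[R] A) n := by
  have hle : torsionIdeal R A n ≤ Ideal.comap
      (Algebra.TensorProduct.includeRight : A →ₐ[R] R' ⊗[R] A).toRingHom
      (torsionIdeal R' (R' ⊗[R] A) n) := by
    rw [torsionIdeal, Ideal.map_le_iff_le_comap]
    intro z hz
    rw [RingHom.mem_ker] at hz
    rw [Ideal.mem_comap, Ideal.mem_comap]
    show (1 : R') ⊗ₜ[R] (powConv R A n z) ∈ torsionIdeal R' (R' ⊗[R] A) n
    rw [← powConv_one_tmul]
    apply Ideal.mem_map_of_mem
    rw [RingHom.mem_ker]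
    show counit (R := R') ((1 : R') ⊗ₜ[R] z) = 0
    rw [counit_one_tmul]
    have : counit (R := R) z = 0 := hz
    rw [this, map_zero]
  exact hle ha

end torsionIdeal

section alg

variable {K : Type u} [Field K] {M : Type u} [CommGroup M]

/-- the map on group algebras induced by `M → M / Mⁿ` -/
def quotPow (n : ℕ) : MonoidAlgebra K M →ₐ[K] MonoidAlgebra K (M ⧸ (powMonoidHom n : M →* M).range) :=
  MonoidAlgebra.mapDomainAlgHom K K (QuotientGroup.mk' (powMonoidHom n : M →* M).range)

lemma quotPow_single (n : ℕ) (m : M) (r : K) :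
    quotPow (K := K) n (MonoidAlgebra.single m r) =
      MonoidAlgebra.single (QuotientGroup.mk' (powMonoidHom n : M →* M).range m) r := by
  simp [quotPow]

lemma quotPow_powConv (n : ℕ) (a : MonoidAlgebra K M) :
    quotPow n (powConv K (MonoidAlgebra K M) n a) =
      algebraMap K _ (counit (R := K) a) := by
  induction a using MonoidAlgebra.induction_linear with
  | zero => simp
  | add x y hx hy => rw [map_add, map_add, hx, hy, map_add, map_add]
  | single m r =>
    rw [powConv_single, quotPow_single, MonoidAlgebra.counit_single, CommSemiring.counit_apply]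
    have h1 : QuotientGroup.mk' (powMonoidHom n : M →* M).range (m ^ n) = 1 := by
      rw [← MonoidHom.mem_ker, QuotientGroup.ker_mk']
      exact ⟨m, rfl⟩
    rw [h1]
    rfl

lemma torsionIdeal_le_ker_quotPow (n : ℕ) :
    torsionIdeal K (MonoidAlgebra K M) n ≤ RingHom.ker (quotPow (K := K) (M := M) n) := by
  rw [torsionIdeal, Ideal.map_le_iff_le_comap]
  intro z hz
  rw [RingHom.mem_ker] at hz
  rw [Ideal.mem_comap, RingHom.mem_ker]
  show quotPow n (powConv K (MonoidAlgebra K M) n z) = 0
  rw [quotPow_powConv]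
  have : counit (R := K) z = 0 := hz
  rw [this, map_zero]

/-- an element of all the prime-to-`p` torsion ideals of a reduced finitely generated group
algebra vanishes -/
theorem eq_zero_of_forall_mem_torsionIdeal (p : ℕ) [CharP K p] (hfg : Group.FG M)
    [IsReduced (MonoidAlgebra K M)] (y : MonoidAlgebra K M)
    (hy : ∀ n : ℕ, 0 < n → ¬ p ∣ n → y ∈ torsionIdeal K (MonoidAlgebra K M) n) : y = 0 := by
  classical
  by_contra hne
  have hp0 : p = 0 ∨ p.Prime := (CharP.char_is_prime_or_zero K p).symm
  haveI : AddGroup.FG (Additive M) := GroupFG.iff_add_fg.mp hfg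
  have htors : p.Prime → ∀ g : Additive M, p • g = 0 → g = 0 := by
    intro hp g hg
    haveI : Fact p.Prime := ⟨hp⟩
    haveI : CharP (MonoidAlgebra K M) p :=
      charP_of_injective_algebraMap (algebraMap K (MonoidAlgebra K M)).injective p
    have hm : (Additive.toMul g) ^ p = 1 := by
      have := congrArg Additive.toMul hg
      simpa using this
    have h1 : (MonoidAlgebra.single (Additive.toMul g) (1 : K) - 1) ^ p = 0 := by
      rw [sub_pow_char, MonoidAlgebra.single_pow, hm, one_pow, one_pow, MonoidAlgebra.one_def,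
        sub_self]
    have h2 : MonoidAlgebra.single (Additive.toMul g) (1 : K) - 1 = 0 :=
      IsReduced.eq_zero _ ⟨p, h1⟩
    rw [sub_eq_zero, MonoidAlgebra.one_def, MonoidAlgebra.single_left_inj one_ne_zero] at h2
    have : g = Additive.ofMul (Additive.toMul g) := rfl
    rw [this, h2]
    rfl
  -- the finite set of differences
  let S : Finset M := y.coeff.support
  let D : Finset (Additive M) :=
    ((S ×ˢ S).filter (fun st => st.1 ≠ st.2)).image (fun st => Additive.ofMul (st.1⁻¹ * st.2))
  have hD : ∀ d ∈ D, d ≠ 0 := by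
    intro d hd
    rw [Finset.mem_image] at hd
    obtain ⟨⟨s, t⟩, hst, rfl⟩ := hd
    rw [Finset.mem_filter] at hst
    intro h0
    have : s⁻¹ * t = 1 := h0
    apply hst.2
    show s = t
    rw [inv_mul_eq_one] at this
    exact this
  obtain ⟨n, hn, hpn, hnD⟩ := exists_forall_not_mem_smul hp0 htors D hD
  have hinj : Set.InjOn (QuotientGroup.mk' (powMonoidHom n : M →* M).range) (S : Set M) := by
    intro s hs t ht hst
    by_contra hne'
    have h1 : s⁻¹ * t ∈ (powMonoidHom n : M →* M).range := by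
      have := (QuotientGroup.eq (s := (powMonoidHom n : M →* M).range) (a := s) (b := t)).mp hst
      exact this
    obtain ⟨g, hg⟩ := h1
    have h2 : Additive.ofMul (s⁻¹ * t) ∈ D := by
      rw [Finset.mem_image]
      refine ⟨(s, t), ?_, rfl⟩
      rw [Finset.mem_filter, Finset.mem_product]
      exact ⟨⟨hs, ht⟩, hne'⟩
    apply hnD _ h2 (Additive.ofMul g)
    show Additive.ofMul (g ^ n) = _
    have : g ^ n = s⁻¹ * t := hg
    rw [this]
  have hker : quotPow (K := K) n y = 0 := torsionIdeal_le_ker_quotPow n (hy n hn hpn)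
  -- a point of the support
  have hSne : S.Nonempty := by
    rw [Finset.nonempty_iff_ne_empty]
    intro hS
    apply hne
    rw [← MonoidAlgebra.coeff_inj, MonoidAlgebra.coeff_zero]
    exact Finsupp.support_eq_empty.mp hS
  obtain ⟨m₀, hm₀⟩ := hSne
  have h3 : (quotPow (K := K) n y).coeff
      (QuotientGroup.mk' (powMonoidHom n : M →* M).range m₀) = y.coeff m₀ := by
    show (MonoidAlgebra.mapDomain (QuotientGroup.mk' (powMonoidHom n : M →* M).range) y).coeff
      (QuotientGroup.mk' (powMonoidHom n : M →* M).range m₀) = y.coeff m₀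
    rw [MonoidAlgebra.coeff_mapDomain]
    exact Finsupp.mapDomain_apply' (S : Set M) y.coeff subset_rfl hinj hm₀
  rw [hker, MonoidAlgebra.coeff_zero, Finsupp.zero_apply] at h3
  exact (Finsupp.mem_support_iff.mp hm₀) h3.symm

end alg

section main

variable (k A : Type u) [Field k] [CommRing A] [HopfAlgebra k A]

/-- density of the prime-to-`p` torsion in a smooth group of multiplicative type over a field -/
theorem iInf_torsionIdeal_eq_bot [Algebra.FiniteType k A] [Algebra.FormallySmooth k A]
    (h : IsMultType k A) :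
    ⨅ n : {n : ℕ // 0 < n ∧ ¬ ringChar k ∣ n}, torsionIdeal k A n.1 = ⊥ := by
  rw [eq_bot_iff]
  intro x hx
  rw [Submodule.mem_iInf] at hx
  obtain ⟨K, _, _, M, _, ⟨e⟩⟩ := IsMultType.exists_field_chart h
  haveI hft : Algebra.FiniteType K (K ⊗[k] A) := inferInstance
  haveI hfp : Algebra.FinitePresentation K (K ⊗[k] A) :=
    Algebra.FinitePresentation.of_finiteType.mp hft
  haveI hfs : Algebra.FormallySmooth K (K ⊗[k] A) := inferInstance
  haveI hsm : Algebra.Smooth K (K ⊗[k] A) := ⟨hfs, hfp⟩
  have hred : IsReduced (K ⊗[k] A) :=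
    Groth.Agent.Helper7.SmoothBC.isReduced_of_smooth_field K (K ⊗[k] A)
  haveI : IsReduced (MonoidAlgebra K M) :=
    isReduced_of_injective
      ((e.symm : MonoidAlgebra K M →ₐc[K] K ⊗[k] A) : MonoidAlgebra K M →+* K ⊗[k] A)
      e.symm.injective
  have hfg : Group.FG M := by
    have : Algebra.FiniteType K (MonoidAlgebra K M) :=
      Algebra.FiniteType.equiv hft (e : K ⊗[k] A ≃ₐ[K] MonoidAlgebra K M)
    exact MonoidAlgebra.finiteType_iff_group_fg.mp this
  haveI : CharP K (ringChar k) :=
    charP_of_injective_algebraMap (algebraMap k K).injective (ringChar k)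
  have hy : e ((1 : K) ⊗ₜ[k] x) = 0 := by
    apply eq_zero_of_forall_mem_torsionIdeal (ringChar k) hfg
    intro n hn hpn
    have hxn : x ∈ torsionIdeal k A n := hx ⟨n, hn, hpn⟩
    have h1 : (1 : K) ⊗ₜ[k] x ∈ torsionIdeal K (K ⊗[k] A) n :=
      one_tmul_mem_torsionIdeal K n hxn
    exact bialgHom_mem_torsionIdeal (e : K ⊗[k] A →ₐc[K] MonoidAlgebra K M) n h1
  have h0 : (1 : K) ⊗ₜ[k] x = 0 := by
    have hinje : Function.Injective e := e.injective
    apply hinje
    rw [hy, map_zero]
  have hinj : Function.Injective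
      (Algebra.TensorProduct.includeRight : A →ₐ[k] K ⊗[k] A) :=
    Algebra.TensorProduct.includeRight_injective (A := K) (B := A) (algebraMap k K).injective
  rw [Submodule.mem_bot]
  apply hinj
  rw [map_zero]
  exact h0

end main

end Groth.Agent.Lib.Helper6.TorsDense
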